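import Groth.Agent.Vancyc.H566.NormCover
import Groth.Agent.Sga5.H852.CurveGeo
import Mathlib.AlgebraicGeometry.AlgClosed.Basic

/-!
# The normalization of a curve in a finite étale cover of an open part

`f : C ⟶ Spec k` smooth of relative dimension one, quasi-compact, `C` connected, `j : U ⟶ C` an open
subscheme, `p : V ⟶ U` finite étale with `V` connected. The normalization `C'` of `p ≫ j`, with
`q = (p ≫ j).fromNormalization : C' ⟶ C` and `i = (p ≫ j).toNormalization : V ⟶ C'`:

* `props`: `q` finite surjective, `C'` integral, regular, smooth over `k`, `V = C' ×_C U`;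
* `rho`: the action on `C'` of a group acting on `V` over `U`;
* `free`, `trans`: it is free and transitive on the closed points of the fibres over `U` if the group acts
  freely and transitively on the closed points of the fibres of `p`;
* `etale_snd`: `C' ×_C U ⟶ U` is étale.
-/

set_option autoImplicit false
set_option linter.unusedSectionVars false
universe u
open CategoryTheory CategoryTheory.Limits AlgebraicGeometry Opposite

namespace Groth.Agent.Vancyc.H566.Norm

open NormCover

variable {k : Type u} [Field k] {C U V : Scheme.{u}} (j : U ⟶ C) [IsOpenImmersion j]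
  (p : V ⟶ U) [IsFinite p] [Etale p]

variable (f : C ⟶ Spec (CommRingCat.of k)) [SmoothOfRelativeDimension 1 f] [QuasiCompact f]

include f in
omit [Etale p] in
theorem quasiCompact_comp : QuasiCompact (p ≫ j) := by
  have h2 : Smooth f := SmoothOfRelativeDimension.smooth 1 f
  have : IsLocallyNoetherian C := LocallyOfFiniteType.isLocallyNoetherian f
  have h3 : QuasiCompact j := inferInstance
  infer_instance

include j in
omit [IsFinite p] in
theorem smooth_comp [QuasiCompact (p ≫ j)] : SmoothOfRelativeDimension 1 ((p ≫ j) ≫ f) := by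
  have h3 : Etale (p ≫ j) := inferInstance
  have h4 : SmoothOfRelativeDimension 0 (p ≫ j) := inferInstance
  have h5 : SmoothOfRelativeDimension (0 + 1) ((p ≫ j) ≫ f) := inferInstance
  simpa using h5

variable [ConnectedSpace C] [hVc : ConnectedSpace V] [QuasiCompact (p ≫ j)]

/-- All the geometric properties of the normalization of `C` in `V`. -/
theorem props [PerfectField k] :
    IsFinite (p ≫ j).fromNormalization ∧ IsOpenImmersion (p ≫ j).toNormalization ∧
      (∀ z : (p ≫ j).normalization, IsRegularLocalRing ((p ≫ j).normalization.presheaf.stalk z)) ∧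
      Smooth ((p ≫ j).fromNormalization ≫ f) ∧ IsIntegral (p ≫ j).normalization ∧
      Surjective (p ≫ j).fromNormalization ∧
      IsPullback (p ≫ j).toNormalization p (p ≫ j).fromNormalization j := by
  have h2 : Smooth f := SmoothOfRelativeDimension.smooth 1 f
  have h7 := smooth_comp j p f
  have h4 : IsIntegral V := Sga5.H852.CurveGeo.isIntegral ((p ≫ j) ≫ f)
  have h6 : IsIntegral C := Sga5.H852.CurveGeo.isIntegral f
  have hcpt : CompactSpace C := QuasiCompact.compactSpace_of_compactSpace f
  have h8 : Smooth ((p ≫ j) ≫ f) := SmoothOfRelativeDimension.smooth 1 _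
  have h9 : topologicalKrullDim V ≤ 1 := Sga5.H852.CurveGeo.topologicalKrullDim_le ((p ≫ j) ≫ f)
  obtain ⟨a1, a2, a3, a4, a5⟩ := NormCover.regular k f (p ≫ j) h9
  have hfac : (p ≫ j).toNormalization ≫ (p ≫ j).fromNormalization = p ≫ j :=
    (p ≫ j).toNormalization_fromNormalization
  refine ⟨a1, a2, a3, a4, inferInstance, ?_,
    Sga4h.LFinGal.isPullback_of_finite j p (p ≫ j).toNormalization (p ≫ j).fromNormalization hfac⟩
  have hne : Nonempty V := hVc.toNonempty
  have hdom : IsDominant (p ≫ j) := by
    constructor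
    have hop : IsOpen (Set.range (p ≫ j)) := (p ≫ j).isOpenMap.isOpen_range
    exact hop.dense (Set.range_nonempty _)
  constructor
  rw [← Set.range_eq_univ]
  have hcl : IsClosed (Set.range (p ≫ j).fromNormalization) :=
    (p ≫ j).fromNormalization.isClosedMap.isClosed_range
  have hd : Dense (Set.range (p ≫ j).fromNormalization) := by
    refine Dense.mono ?_ (p ≫ j).denseRange
    rintro _ ⟨x, rfl⟩
    refine ⟨(p ≫ j).toNormalization x, ?_⟩
    rw [← Scheme.Hom.comp_apply, (p ≫ j).toNormalization_fromNormalization]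
  rw [← hcl.closure_eq, hd.closure_eq]

include f in
theorem etale_snd [PerfectField k] : Etale (pullback.snd (p ≫ j).fromNormalization j) := by
  obtain ⟨-, -, -, -, -, -, a7⟩ := props j p f
  have h1 : pullback.snd (p ≫ j).fromNormalization j = a7.isoPullback.inv ≫ p :=
    a7.isoPullback_inv_snd.symm
  rw [h1]
  infer_instance

omit [IsOpenImmersion j] in
/-- Points of `C'` over `U` come from `V`. -/
theorem exists_pt {C' V' : Scheme.{u}} {v : V' ⟶ C'} {p : V' ⟶ U} {q : C' ⟶ C}
    (h : IsPullback v p q j) (y : C') (u : U) (hy : q y = j u) : ∃ y' : V', v y' = y ∧ p y' = u := by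
  obtain ⟨z, hz1, hz2⟩ := Scheme.Pullback.exists_preimage_pullback (f := q) (g := j) y u hy
  refine ⟨h.isoPullback.inv z, ?_, ?_⟩
  · rw [← Scheme.Hom.comp_apply, h.isoPullback_inv_fst, hz1]
  · rw [← Scheme.Hom.comp_apply, h.isoPullback_inv_snd, hz2]

theorem isClosed_pt {C' V' : Scheme.{u}} (v : V' ⟶ C') [IsOpenImmersion v] (y' : V')
    (hy : IsClosed ({v y'} : Set C')) : IsClosed ({y'} : Set V') := by
  have h1 : v ⁻¹' {v y'} = {y'} := by
    ext x
    constructor
    · intro hx
      exact v.isOpenEmbedding.injective hx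
    · rintro rfl
      rfl
  rw [← h1]
  exact hy.preimage v.continuous

variable {G : Type*} [Group G] (a : G →* Aut V) (ha : ∀ g, (a g).hom ≫ p = p)

omit [IsOpenImmersion j] [IsFinite p] [Etale p] [QuasiCompact (p ≫ j)] in
include ha in
theorem act_comp (g : G) : (a g).hom ≫ p ≫ j = p ≫ j := by
  rw [← Category.assoc, ha]

/-- The action on the normalization of `C` in `V` of a group acting on `V` over `U`. -/
noncomputable def rho : G →* Aut (p ≫ j).normalization :=
  nact (p ≫ j) a (act_comp j p a ha)

theorem rho_from (g : G) :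
    (rho j p a ha g).hom ≫ (p ≫ j).fromNormalization = (p ≫ j).fromNormalization :=
  nact_from _ _ _ _

theorem to_rho (g : G) :
    (p ≫ j).toNormalization ≫ (rho j p a ha g).hom = (a g).hom ≫ (p ≫ j).toNormalization :=
  to_nact (p ≫ j) a (act_comp j p a ha) g

theorem rho_apply (g : G) (y : V) :
    (rho j p a ha g).hom ((p ≫ j).toNormalization y) = (p ≫ j).toNormalization ((a g).hom y) := by
  rw [← Scheme.Hom.comp_apply, ← Scheme.Hom.comp_apply, to_rho]

include f in
/-- Freeness over `U`. -/
theorem free [PerfectField k]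
    (hfree : ∀ y : V, IsClosed ({y} : Set V) → ∀ g : G, (a g).hom y = y → g = 1)
    (y : (p ≫ j).normalization) (hy : IsClosed ({y} : Set (p ≫ j).normalization))
    (hyU : (p ≫ j).fromNormalization y ∈ Set.range j) (g : G) (hg : (rho j p a ha g).hom y = y) :
    g = 1 := by
  obtain ⟨a1, a2, -, -, -, -, a7⟩ := props j p f
  obtain ⟨u, hu⟩ := hyU
  obtain ⟨y', rfl, -⟩ := exists_pt j a7 y u hu.symm
  rw [rho_apply] at hg
  exact hfree y' (isClosed_pt _ y' hy) g ((p ≫ j).toNormalization.isOpenEmbedding.injective hg)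

include f in
/-- Transitivity over `U`. -/
theorem trans [PerfectField k]
    (htrans : ∀ y₁ y₂ : V, IsClosed ({y₁} : Set V) → IsClosed ({y₂} : Set V) → p y₁ = p y₂ →
      ∃ g : G, (a g).hom y₁ = y₂)
    (y₁ y₂ : (p ≫ j).normalization) (h₁ : IsClosed ({y₁} : Set (p ≫ j).normalization))
    (h₂ : IsClosed ({y₂} : Set (p ≫ j).normalization))
    (hyU : (p ≫ j).fromNormalization y₁ ∈ Set.range j)
    (h : (p ≫ j).fromNormalization y₁ = (p ≫ j).fromNormalization y₂) :
    ∃ g : G, (rho j p a ha g).hom y₁ = y₂ := by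
  obtain ⟨a1, a2, -, -, -, -, a7⟩ := props j p f
  obtain ⟨u, hu⟩ := hyU
  obtain ⟨y₁', rfl, hu₁⟩ := exists_pt j a7 y₁ u hu.symm
  obtain ⟨y₂', rfl, hu₂⟩ := exists_pt j a7 y₂ u (h.symm.trans hu.symm)
  obtain ⟨g, hg⟩ := htrans y₁' y₂' (isClosed_pt _ y₁' h₁) (isClosed_pt _ y₂' h₂)
    (hu₁.trans hu₂.symm)
  exact ⟨g, by rw [rho_apply, hg]⟩

end Groth.Agent.Vancyc.H566.Norm
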