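import Groth.Agent.Pi1.H384.SplitCover
import Mathlib.AlgebraicGeometry.AlgClosed.Basic
import Mathlib.CategoryTheory.Galois.GaloisObjects


/-!
# Galois covers and closed points

`free`, `trans`: the automorphism group of a connected Galois finite étale cover acts freely and
transitively on the closed points of the fibres (base locally of finite type over an algebraically closed
field).
-/

set_option autoImplicit false
universe u
open CategoryTheory CategoryTheory.Limits AlgebraicGeometry Opposite

namespace Groth.Agent.Vancyc.H566.GalPts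

open Groth.Agent.Pi1B.FEtFibre

variable {k : Type u} [Field k] {U : Scheme.{u}}

/-- The action of the automorphism group of a finite étale cover on its total space. -/
noncomputable def act (V : FEt.Cat U) : Aut V →* Aut V.left :=
  (MorphismProperty.Over.forget FEt.prop ⊤ U ⋙ Over.forget U).mapAut V

theorem act_hom (V : FEt.Cat U) (g : Aut V) : (act V g).hom = g.hom.left := rfl

theorem left_hom {V W : FEt.Cat U} (g : V ⟶ W) : g.left ≫ W.hom = V.hom := MorphismProperty.Over.w g

variable (V : FEt.Cat U)

theorem lft_comp (a : U ⟶ Spec (CommRingCat.of k)) [LocallyOfFiniteType a] :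
    LocallyOfFiniteType (V.hom ≫ a) := by
  have h1 : IsFinite V.hom := V.prop.1
  infer_instance

variable [IsAlgClosed k] (a : U ⟶ Spec (CommRingCat.of k)) [LocallyOfFiniteType a]

include a

/-- The point of the geometric fibre given by a closed point. -/
theorem exists_fibre_point (y : V.left) (hy : IsClosed ({y} : Set V.left)) :
    ∃ (t : Spec (CommRingCat.of k) ⟶ V.left), t ≫ V.hom ≫ a = 𝟙 _ ∧
      t (IsLocalRing.closedPoint k) = y := by
  have := lft_comp V a
  exact ⟨pointOfClosedPoint (V.hom ≫ a) y hy, pointOfClosedPoint_comp _ _ _,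
    pointOfClosedPoint_apply _ _ _ _⟩

/-- An automorphism of a connected finite étale cover which fixes a closed point is trivial. -/
theorem free [ConnectedSpace U] [hV : PreGaloisCategory.IsConnected V] (y : V.left)
    (hy : IsClosed ({y} : Set V.left)) (g : Aut V) (hg : g.hom.left y = y) : g = 1 := by
  have := lft_comp V a
  obtain ⟨t, ht, hty⟩ := exists_fibre_point V a y hy
  let ξ : Spec (CommRingCat.of k) ⟶ U := t ≫ V.hom
  let F := fiberF ξ
  let x : F.obj V := (⟨t, rfl⟩ : FEt.fiberObj ξ V)
  have hgt : t ≫ g.hom.left = t := by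
    refine ext_of_apply_closedPoint_eq (V.hom ≫ a) ?_ ht ?_
    · rw [Category.assoc, ← Category.assoc g.hom.left, left_hom, ht]
    · rw [Scheme.Hom.comp_apply, hty, hg]
  apply PreGaloisCategory.evaluation_aut_injective_of_isConnected F V x
  change F.map g.hom x = F.map (𝟙 V) x
  rw [F.map_id]
  exact Subtype.ext hgt

/-- The automorphism group of a connected Galois cover acts transitively on the closed points of the
fibres. -/
theorem trans [ConnectedSpace U] [GaloisCategory (FEt.Cat U)] [hV : PreGaloisCategory.IsGalois V]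
    (y₁ y₂ : V.left) (h₁ : IsClosed ({y₁} : Set V.left)) (h₂ : IsClosed ({y₂} : Set V.left))
    (h : V.hom y₁ = V.hom y₂) : ∃ g : Aut V, g.hom.left y₁ = y₂ := by
  obtain ⟨t₁, ht₁, hty₁⟩ := exists_fibre_point V a y₁ h₁
  obtain ⟨t₂, ht₂, hty₂⟩ := exists_fibre_point V a y₂ h₂
  let ξ : Spec (CommRingCat.of k) ⟶ U := t₁ ≫ V.hom
  let F := fiberF ξ
  let x₁ : F.obj V := (⟨t₁, rfl⟩ : FEt.fiberObj ξ V)
  have e : t₂ ≫ V.hom = ξ := by
    refine ext_of_apply_closedPoint_eq a ?_ ?_ ?_
    · rw [Category.assoc, ht₂]
    · rw [Category.assoc, ht₁]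
    · rw [Scheme.Hom.comp_apply, Scheme.Hom.comp_apply, hty₁, hty₂, h]
  let x₂ : F.obj V := (⟨t₂, e⟩ : FEt.fiberObj ξ V)
  obtain ⟨g, hg⟩ := MulAction.IsPretransitive.exists_smul_eq (M := Aut V) x₁ x₂
  refine ⟨g, ?_⟩
  have h3 : t₁ ≫ g.hom.left = t₂ := congrArg Subtype.val hg
  rw [← hty₁, ← Scheme.Hom.comp_apply, h3, hty₂]

end Groth.Agent.Vancyc.H566.GalPts
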