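import Groth.Agent.Pi1.H384.SplitCover
import Groth.Agent.Sga5.FlcCover
import Groth.Agent.EtpbcA.OverSite2
import Groth.Agent.Sga4B.ConstLC
import Groth.Agent.EtpbcA.PullFLC
import Mathlib.AlgebraicGeometry.AlgClosed.Basic
import Mathlib.CategoryTheory.Galois.GaloisObjects

/-!
# A connected Galois finite étale cover trivialising a finite locally constant sheaf

* `exists_gal_const`: on a connected scheme `U`, a finite locally constant sheaf becomes constant on a
  connected finite étale Galois cover of `U`.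
* `trans`, `free`: the automorphism group of a connected Galois cover acts freely and transitively on the
  closed points of the fibres (base of finite type over an algebraically closed field).
-/

set_option autoImplicit false
universe u
open CategoryTheory CategoryTheory.Limits AlgebraicGeometry Opposite

namespace Groth.Agent.Vancyc.H566.GalTriv

open Groth.Agent.Pi1.H384 Groth.Agent.EtpbcA Groth.Agent.Pi1B.FEtFibre

/-- A split cover with nonempty total space has a section. -/
theorem exists_section {X : Scheme.{u}} (Y : FEt.Cat X) (hY : Pi1.IsSplit Y) [Nonempty Y.left] :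
    ∃ s : X ⟶ Y.left, s ≫ Y.hom = 𝟙 X := by
  obtain ⟨ι, _, e, he⟩ := hY
  obtain ⟨y⟩ := ‹Nonempty Y.left›
  obtain ⟨i, x, hx⟩ : ∃ (i : ι) (x : X), Sigma.ι (fun _ : ι => X) i x = e.hom y :=
    (sigmaOpenCover (fun _ : ι => X)).exists_eq (e.hom y)
  exact ⟨Sigma.ι (fun _ : ι => X) i ≫ e.inv, by rw [Category.assoc]; exact he i⟩

/-- A finite locally constant sheaf on a connected scheme becomes constant on a connected Galois cover. -/
theorem exists_gal_const {U : Scheme.{u}} [ConnectedSpace U] (F : EtCoh.Ab U)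
    (hF : EtCoh.IsFiniteLocallyConstant F) :
    ∃ V : FEt.Cat U, (∃ _ : GaloisCategory (FEt.Cat U), PreGaloisCategory.IsGalois V) ∧
      ConnectedSpace V.left ∧ Surjective V.hom ∧ ∃ (M : Type) (_ : AddCommGroup M) (_ : Finite M),
        Nonempty ((EtCoh.pull V.hom).obj F ≅ EtCoh.const V.left M) := by
  obtain ⟨x⟩ : Nonempty U := inferInstance
  obtain ⟨T, hT, t, ht, M, _, _, φ, hφ⟩ := Groth.Agent.Sga5.FlcCover.exists_at hF x
  obtain ⟨e⟩ := (OverSite2.restr_iso_const_iff T F _).1 (ConsFLC.nonempty_iso_const φ hφ)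
  have hTe : Etale T.hom := T.prop
  let T' : FEt.Cat U := MorphismProperty.Over.mk ⊤ T.hom ⟨hT, hTe⟩
  obtain ⟨V, hgal, hconn, hsurj, hsplit⟩ := SplitCover.exists_split T'
  have hne : Nonempty ((FEt.restrict V.hom).obj T').left := by
    obtain ⟨v, hv⟩ := V.hom.surjective x
    obtain ⟨z, -, -⟩ := Scheme.Pullback.exists_preimage_pullback
      (f := T.hom) (g := V.hom) t v (ht.trans hv.symm)
    exact ⟨z⟩
  have hneV : Nonempty V.left := hconn.toNonempty
  obtain ⟨s, hs⟩ := exists_section _ hsplit
  let r : V.left ⟶ T.left := s ≫ pullback.fst T'.hom V.hom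
  have hr : r ≫ T.hom = V.hom := by
    have h1 : pullback.fst T'.hom V.hom ≫ T'.hom = pullback.snd T'.hom V.hom ≫ V.hom :=
      pullback.condition
    have h2 : s ≫ pullback.snd T'.hom V.hom = 𝟙 _ := hs
    exact (Category.assoc _ _ _).trans ((congrArg (s ≫ ·) h1).trans
      ((Category.assoc _ _ _).symm.trans ((congrArg (· ≫ V.hom) h2).trans (Category.id_comp _))))
  refine ⟨V, hgal, hconn, hsurj, M, inferInstance, inferInstance, ⟨?_⟩⟩
  rw [← hr]
  exact (PullFLC.pullComp r T.hom).symm.app F ≪≫ (EtCoh.pull r).mapIso e ≪≫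
    Groth.Agent.Sga4B.ConstLC.pullConstIso r M

end Groth.Agent.Vancyc.H566.GalTriv
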