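import Groth.Agent.Vancyc.H566.Norm
import Groth.Agent.Vancyc.H566.GalTriv
import Groth.Agent.Vancyc.H566.GalPts
import Mathlib.Algebra.Group.Shrink

/-!
# The Galois datum of a finite locally constant sheaf on an open curve

`exists_galois_datum`: `C` a proper smooth connected curve over an algebraically closed field, `F` an
abelian étale sheaf on `C` whose restriction to a nonempty open `j : U ⟶ C` is finite locally constant. Then
there is `q : C' ⟶ C` finite surjective, `C'` connected and regular, with an action of a finite group `G`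
over `C`, such that `q` is étale over `U`, `G` acts freely and transitively on the closed points of the
fibres over `U` and `F` is constant on `C' ×_C U` (the hypotheses of S4175 and S4182, without tameness).
-/

set_option autoImplicit false
universe u
open CategoryTheory CategoryTheory.Limits AlgebraicGeometry Opposite

namespace Groth.Agent.Vancyc.H566.GalDatum

open GalPts

/-- **The Galois datum of a finite locally constant sheaf on an open curve**, for a smooth curve which is
not necessarily proper; moreover `C'` is integral and smooth over `k`, and the value group is finite. -/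
theorem exists_galois_datum' (k : Type u) [Field k] [IsAlgClosed k] {C : Scheme.{u}}
    (f : C ⟶ Spec (CommRingCat.of k)) [ConnectedSpace C] [SmoothOfRelativeDimension 1 f]
    [QuasiCompact f]
    (F : EtCoh.Ab C) {U : Scheme.{u}} (j : U ⟶ C) [IsOpenImmersion j] [Nonempty U]
    (hU : EtCoh.IsFiniteLocallyConstant ((EtCoh.pull j).obj F)) :
    ∃ (C' : Scheme.{u}) (_ : ConnectedSpace C') (q : C' ⟶ C) (_ : IsFinite q) (_ : Surjective q)
      (G : Type) (_ : Group G) (_ : Finite G) (ρ : G →* Aut C'),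
      (∀ y : C', IsRegularLocalRing (C'.presheaf.stalk y)) ∧ (∀ g : G, (ρ g).hom ≫ q = q) ∧
      EtCoh.etaleMP (pullback.snd q j) ∧
      (∀ y : C', IsClosed ({y} : Set C') → q.base y ∈ Set.range j.base →
        ∀ g : G, (ρ g).hom.base y = y → g = 1) ∧
      (∀ y₁ y₂ : C', IsClosed ({y₁} : Set C') → IsClosed ({y₂} : Set C') →
        q.base y₁ ∈ Set.range j.base → q.base y₁ = q.base y₂ → ∃ g : G, (ρ g).hom.base y₁ = y₂) ∧
      (∃ (N : Type) (_ : AddCommGroup N), Finite N ∧
        Nonempty ((EtCoh.pull (pullback.snd q j ≫ j)).obj F ≅ EtCoh.const (pullback q j) N)) ∧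
      IsIntegral C' ∧ Smooth (q ≫ f) := by
  have hint : IsIntegral C := Sga5.H852.CurveGeo.isIntegral f
  have hUint : IsIntegral U := isIntegral_of_isOpenImmersion j
  have hUc : ConnectedSpace U := inferInstance
  have hf : Smooth f := SmoothOfRelativeDimension.smooth 1 f
  obtain ⟨V, ⟨hGC, hgal⟩, hconn, hsurj, M, _, _, ⟨e⟩⟩ :=
    GalTriv.exists_gal_const ((EtCoh.pull j).obj F) hU
  let p : V.left ⟶ U := V.hom
  have hV1 : IsFinite p := V.prop.1
  have hV2 : Etale p := V.prop.2
  have i1 := Norm.quasiCompact_comp j p f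
  obtain ⟨a1, a2, a3, a4, a5, a6, a7⟩ := Norm.props j p f
  have ha : ∀ g : Aut V, (act V g).hom ≫ p = p := fun g => left_hom g.hom
  let G := Shrink.{0} (Aut V)
  let σ : G ≃* Aut V := Shrink.mulEquiv
  have hG : Finite G := Finite.of_equiv _ σ.toEquiv.symm
  let ρ : Aut V →* Aut (p ≫ j).normalization := Norm.rho j p (act V) ha
  refine ⟨(p ≫ j).normalization, inferInstance, (p ≫ j).fromNormalization, a1, a6, G,
    inferInstance, hG, ρ.comp σ.toMonoidHom, a3, fun g => Norm.rho_from j p (act V) ha _,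
    Norm.etale_snd j p f, ?_, ?_, ⟨M, inferInstance, inferInstance, ⟨?_⟩⟩, a5, a4⟩
  · intro y hy hyU g hg
    have := Norm.free j p f (act V) ha
      (fun y hy g hg => GalPts.free V (j ≫ f) y hy g hg) y hy hyU (σ g) hg
    exact σ.injective (this.trans (map_one σ).symm)
  · intro y₁ y₂ h₁ h₂ hyU h
    obtain ⟨g, hg⟩ := Norm.trans j p f (act V) ha
      (fun y₁ y₂ h₁ h₂ h => GalPts.trans V (j ≫ f) y₁ y₂ h₁ h₂ h) y₁ y₂ h₁ h₂ hyU h
    refine ⟨σ.symm g, ?_⟩
    change (ρ (σ (σ.symm g))).hom y₁ = y₂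
    rw [MulEquiv.apply_symm_apply]
    exact hg
  · have h1 : pullback.snd (p ≫ j).fromNormalization j ≫ j = a7.isoPullback.inv ≫ p ≫ j := by
      rw [← Category.assoc, a7.isoPullback_inv_snd]
    rw [h1]
    exact (EtpbcA.PullFLC.pullComp a7.isoPullback.inv (p ≫ j)).symm.app F ≪≫
      (EtCoh.pull a7.isoPullback.inv).mapIso
        ((EtpbcA.PullFLC.pullComp p j).symm.app F ≪≫ e) ≪≫
      Groth.Agent.Sga4B.ConstLC.pullConstIso a7.isoPullback.inv M

/-- **The Galois datum of a finite locally constant sheaf on an open curve.** -/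
theorem exists_galois_datum (k : Type u) [Field k] [IsAlgClosed k] (C : Scheme.{u})
    [C.Over (Spec (CommRingCat.of k))] [ConnectedSpace C] [IsProper (C ↘ Spec (CommRingCat.of k))]
    [SmoothOfRelativeDimension 1 (C ↘ Spec (CommRingCat.of k))]
    (F : EtCoh.Ab C) {U : Scheme.{u}} (j : U ⟶ C) [IsOpenImmersion j] [Nonempty U]
    (hU : EtCoh.IsFiniteLocallyConstant ((EtCoh.pull j).obj F)) :
    ∃ (C' : Scheme.{u}) (_ : ConnectedSpace C') (q : C' ⟶ C) (_ : IsFinite q) (_ : Surjective q)
      (G : Type) (_ : Group G) (_ : Finite G) (ρ : G →* Aut C'),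
      (∀ y : C', IsRegularLocalRing (C'.presheaf.stalk y)) ∧ (∀ g : G, (ρ g).hom ≫ q = q) ∧
      EtCoh.etaleMP (pullback.snd q j) ∧
      (∀ y : C', IsClosed ({y} : Set C') → q.base y ∈ Set.range j.base →
        ∀ g : G, (ρ g).hom.base y = y → g = 1) ∧
      (∀ y₁ y₂ : C', IsClosed ({y₁} : Set C') → IsClosed ({y₂} : Set C') →
        q.base y₁ ∈ Set.range j.base → q.base y₁ = q.base y₂ → ∃ g : G, (ρ g).hom.base y₁ = y₂) ∧
      (∃ (N : Type) (_ : AddCommGroup N),
        Nonempty ((EtCoh.pull (pullback.snd q j ≫ j)).obj F ≅ EtCoh.const (pullback q j) N)) := by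
  obtain ⟨C', b1, q, b2, b3, G, b4, b5, ρ, b6, b7, b8, b9, b10, ⟨N, b11, -, b12⟩, -⟩ :=
    exists_galois_datum' k (C ↘ Spec (CommRingCat.of k)) F j hU
  exact ⟨C', b1, q, b2, b3, G, b4, b5, ρ, b6, b7, b8, b9, b10, N, b11, b12⟩

end Groth.Agent.Vancyc.H566.GalDatum
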