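import Groth.Agent.Vancyc.H588.Gos
import Groth.Agent.Vancyc.H566.GalDatum

/-!
# `GalDatum` holds
-/

set_option autoImplicit false
universe u
open CategoryTheory AlgebraicGeometry

namespace Groth.Agent.Vancyc.H566.GalProp

/-- The hypothesis `GalDatum` of `Groth.Agent.Vancyc.H588.Gos` holds. -/
theorem galDatum : Groth.Agent.Vancyc.H588.Gos.GalDatum.{u} := by
  intro k _ _ C _ _ _ _ F U j _ _ hU
  exact GalDatum.exists_galois_datum k C F j hU

end Groth.Agent.Vancyc.H566.GalProp
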