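import Groth.Agent.Etcore.CurveNorm621
import Groth.Agent.Sga4h.LFinGal

/-!
# Relative normalizations of curves and group actions on them

* `nact`: a group acting on `V` over `C` acts on the relative normalization of `h : V ⟶ C`.
* `regular`: for `h : V ⟶ C` quasi-finite separated, `C` of finite type over a perfect field, `V` an
  integral smooth curve, the relative normalization is finite over `C`, integral, regular and smooth over
  the base field, and contains `V` as an open subscheme.
-/

set_option autoImplicit false
universe u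
open CategoryTheory CategoryTheory.Limits AlgebraicGeometry

namespace Groth.Agent.Vancyc.H566.NormCover

section functor

variable {V C : Scheme.{u}} (h : V ⟶ C) [QuasiCompact h] [QuasiSeparated h]

/-- Functoriality of the relative normalization in endomorphisms of `V` over `C`. -/
noncomputable def nmap (σ : V ⟶ V) (hσ : σ ≫ h = h) : h.normalization ⟶ h.normalization :=
  h.normalizationDesc (σ ≫ h.toNormalization) h.fromNormalization (by
    rw [Category.assoc, h.toNormalization_fromNormalization, hσ])

theorem to_nmap (σ : V ⟶ V) (hσ : σ ≫ h = h) :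
    h.toNormalization ≫ nmap h σ hσ = σ ≫ h.toNormalization :=
  h.toNormalization_normalizationDesc _ _ _

theorem nmap_from (σ : V ⟶ V) (hσ : σ ≫ h = h) :
    nmap h σ hσ ≫ h.fromNormalization = h.fromNormalization :=
  h.normalizationDesc_comp _ _ _

theorem nmap_id (hσ : 𝟙 V ≫ h = h) : nmap h (𝟙 V) hσ = 𝟙 _ := by
  refine Scheme.Hom.normalization.hom_ext h _ _ h.fromNormalization ?_ (nmap_from h _ hσ)
    (Category.id_comp _)
  rw [to_nmap, Category.id_comp, Category.comp_id]

theorem nmap_comp (σ τ : V ⟶ V) (hσ : σ ≫ h = h) (hτ : τ ≫ h = h) (hστ : (σ ≫ τ) ≫ h = h) :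
    nmap h (σ ≫ τ) hστ = nmap h σ hσ ≫ nmap h τ hτ := by
  refine Scheme.Hom.normalization.hom_ext h _ _ h.fromNormalization ?_ (nmap_from h _ hστ) ?_
  · rw [to_nmap, ← Category.assoc, to_nmap, Category.assoc, Category.assoc, to_nmap]
  · rw [Category.assoc, nmap_from, nmap_from]

theorem nmap_congr {σ τ : V ⟶ V} (e : σ = τ) (hσ : σ ≫ h = h) (hτ : τ ≫ h = h) :
    nmap h σ hσ = nmap h τ hτ := by
  subst e
  rfl

/-- A group acting on `V` over `C` acts on the relative normalization of `V ⟶ C`. -/
noncomputable def nact {G : Type*} [Group G] (a : G →* Aut V) (ha : ∀ g, (a g).hom ≫ h = h) :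
    G →* Aut h.normalization where
  toFun g :=
    { hom := nmap h (a g).hom (ha g)
      inv := nmap h (a g⁻¹).hom (ha _)
      hom_inv_id := by
        have e : (a g).hom ≫ (a g⁻¹).hom = 𝟙 V := by
          have h1 : a (g⁻¹ * g) = a g⁻¹ * a g := map_mul a _ _
          rw [inv_mul_cancel, map_one] at h1
          exact (congrArg Iso.hom h1).symm
        have h2 : ((a g).hom ≫ (a g⁻¹).hom) ≫ h = h := by rw [e, Category.id_comp]
        have h3 : 𝟙 V ≫ h = h := Category.id_comp _
        rw [← nmap_comp h _ _ (ha g) (ha _) h2, nmap_congr h e h2 h3, nmap_id]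
      inv_hom_id := by
        have e : (a g⁻¹).hom ≫ (a g).hom = 𝟙 V := by
          have h1 : a (g * g⁻¹) = a g * a g⁻¹ := map_mul a _ _
          rw [mul_inv_cancel, map_one] at h1
          exact (congrArg Iso.hom h1).symm
        have h2 : ((a g⁻¹).hom ≫ (a g).hom) ≫ h = h := by rw [e, Category.id_comp]
        have h3 : 𝟙 V ≫ h = h := Category.id_comp _
        rw [← nmap_comp h _ _ (ha _) (ha g) h2, nmap_congr h e h2 h3, nmap_id] }
  map_one' := by
    ext : 1
    have e : (a 1).hom = 𝟙 V := congrArg Iso.hom (map_one a)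
    change nmap h (a 1).hom (ha 1) = 𝟙 _
    rw [nmap_congr h e (ha 1) (Category.id_comp _), nmap_id]
  map_mul' g g' := by
    ext : 1
    have e : (a (g * g')).hom = (a g').hom ≫ (a g).hom := congrArg Iso.hom (map_mul a g g')
    change nmap h (a (g * g')).hom (ha _) = nmap h (a g').hom (ha _) ≫ nmap h (a g).hom (ha _)
    have h2 : ((a g').hom ≫ (a g).hom) ≫ h = h := by rw [← e]; exact ha _
    rw [nmap_congr h e (ha _) h2, nmap_comp h _ _ (ha g') (ha g) h2]

variable {G : Type*} [Group G] (a : G →* Aut V) (ha : ∀ g, (a g).hom ≫ h = h)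

theorem nact_from (g : G) : (nact h a ha g).hom ≫ h.fromNormalization = h.fromNormalization :=
  nmap_from h (a g).hom (ha g)

theorem to_nact (g : G) :
    h.toNormalization ≫ (nact h a ha g).hom = (a g).hom ≫ h.toNormalization :=
  to_nmap h (a g).hom (ha g)

end functor

open Groth.Agent.CurvesA.AffCurveGeom

/-- The relative normalization of a curve in a smooth integral quasi-finite curve. -/
theorem regular (k : Type u) [Field k] [PerfectField k] {V Z : Scheme.{u}}
    (f : Z ⟶ Spec (CommRingCat.of k)) [LocallyOfFiniteType f] [CompactSpace Z]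
    (h : V ⟶ Z) [QuasiCompact h] [IsSeparated h] [LocallyOfFiniteType h] [LocallyQuasiFinite h]
    [IsIntegral V] [Smooth (h ≫ f)] (hWdim : topologicalKrullDim V ≤ 1) :
    IsFinite h.fromNormalization ∧ IsOpenImmersion h.toNormalization ∧
      (∀ z : h.normalization, IsRegularLocalRing (h.normalization.presheaf.stalk z)) ∧
      Smooth (h.fromNormalization ≫ f) ∧ topologicalKrullDim h.normalization ≤ 1 := by
  have hZ : IsLocallyNoetherian Z := LocallyOfFiniteType.isLocallyNoetherian f
  have hZn : IsNoetherian Z := {}
  have hqf : QuasiCompact f := (quasiCompact_iff_compactSpace f).2 inferInstance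
  have hfin : IsFinite h.fromNormalization :=
    Groth.Agent.CurvesA.NormFinite.isFinite_fromNormalization h (fun U hU S _ _ _ _ =>
      Groth.Agent.S0573.result Γ(Z, U) (isNagata_app k f U hU) S)
  let p := h.fromNormalization ≫ f
  have hp1 : LocallyOfFiniteType p := inferInstance
  have hp2 : QuasiCompact p := inferInstance
  have hi : IsOpenImmersion h.toNormalization := inferInstance
  have hdim' : topologicalKrullDim h.normalization ≤ 1 :=
    Groth.Agent.CurvesA.CurveNorm.topologicalKrullDim_le_one k p h.toNormalization hWdim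
  have hreg : ∀ z : h.normalization, IsRegularLocalRing (h.normalization.presheaf.stalk z) := by
    intro z
    by_cases hz : z ∈ Set.range h.toNormalization
    · obtain ⟨w, rfl⟩ := hz
      let : V.Over (Spec (CommRingCat.of k)) := ⟨h ≫ f⟩
      have : Smooth (V ↘ (Spec (CommRingCat.of k))) := inferInstanceAs (Smooth (h ≫ f))
      have h1 : IsRegularLocalRing (V.presheaf.stalk w) := Groth.Agent.S1535.result k V w
      let e : h.normalization.presheaf.stalk (h.toNormalization w) ≅ V.presheaf.stalk w :=
        asIso (h.toNormalization.stalkMap w)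
      exact IsRegularLocalRing.of_ringEquiv e.symm.commRingCatIsoToRingEquiv
    · obtain ⟨U, hU, hzU, -⟩ := exists_isAffineOpen_mem_and_subset
        (x := h.fromNormalization z) (U := ⊤) trivial
      obtain ⟨h1, h2⟩ := Groth.Agent.CurvesA.CurveNorm.exists_isDomain_stalk k p h.toNormalization hWdim
        (h.fromNormalization ⁻¹ᵁ U) (hU.preimage _)
        (Groth.Agent.CurvesA.NormFinite.isIntegrallyClosedIn_toNormalization h U hU) z hzU hz
      infer_instance
  refine ⟨hfin, hi, hreg, ?_, hdim'⟩
  let : h.normalization.Over (Spec (CommRingCat.of k)) := ⟨p⟩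
  have hp3 : LocallyOfFinitePresentation (h.normalization ↘ (Spec (CommRingCat.of k))) :=
    inferInstanceAs (LocallyOfFinitePresentation p)
  have hh := (Groth.Agent.S1561.result k h.normalization).1
  have h' : p.smoothLocus = ⊤ := by
    rw [eq_top_iff]
    intro z _
    exact (hh z).2 (hreg z)
  exact Scheme.Hom.smoothLocus_eq_top_iff.1 h'

end Groth.Agent.Vancyc.H566.NormCover
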